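import Groth.Agent.An.H869.Growth
import Mathlib.Topology.Covering.Basic
import Mathlib.Analysis.Calculus.FDeriv.Mul
import Mathlib.Analysis.Calculus.FDeriv.Pow
import Mathlib.Analysis.Calculus.FDeriv.Add

/-!
# Characteristic polynomials of holomorphic functions of moderate growth on finite coverings of `ℂⁿ ∖ {D = 0}`

`exists_charpoly`: for a covering `p : E → {D ≠ 0}` with fibres of cardinality `m` and `F : E → ℂ` holomorphic along
local sections, of moderate growth, the polynomial `∏_{e ∈ E_x} (T - D(x)^k F(e))` has polynomial coefficients.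
-/

set_option autoImplicit false

open Topology MvPolynomial

namespace Groth.Agent.An.H934.Sym

section Cover

variable {E X : Type*} [TopologicalSpace E] [TopologicalSpace X] {p : E → X}

/-- Local sections near an evenly covered point. -/
theorem exists_sections {x₀ : X} {I : Type*} [TopologicalSpace I] (h : IsEvenlyCovered p x₀ I) :
    ∃ (U : Set X) (σ : I → X → E), IsOpen U ∧ x₀ ∈ U ∧ (∀ i, ContinuousAt (σ i) x₀) ∧
      (∀ i, ∀ x ∈ U, p (σ i x) = x) ∧ (∀ x ∈ U, Function.Injective fun i => σ i x) ∧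
      (∀ x ∈ U, ∀ e, p e = x → ∃ i, σ i x = e) := by
  classical
  obtain ⟨_, U, hx, hU, hfU, H, hH⟩ := h
  refine ⟨U, fun i x => if hx' : x ∈ U then (H.symm (⟨x, hx'⟩, i)).1 else (H.symm (⟨x₀, hx⟩, i)).1,
    hU, hx, ?_, ?_, ?_, ?_⟩
  · intro i
    have h1 : ContinuousOn (fun x => if hx' : x ∈ U then (H.symm (⟨x, hx'⟩, i)).1 else
        (H.symm (⟨x₀, hx⟩, i)).1) U := by
      rw [continuousOn_iff_continuous_domRestrict]
      have h2 : Continuous fun x : U => (H.symm (x, i)).1 := by fun_prop
      refine h2.congr fun x => ?_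
      simp
    exact h1.continuousAt (hU.mem_nhds hx)
  · intro i x hx'
    have h1 := hH (H.symm (⟨x, hx'⟩, i))
    rw [H.apply_symm_apply] at h1
    simpa [hx'] using h1.symm
  · intro x hx' i j hij
    simp only [hx', dif_pos] at hij
    have h1 := H.symm.injective (Subtype.ext hij)
    exact (Prod.ext_iff.1 h1).2
  · rintro x hx' e rfl
    refine ⟨(H ⟨e, hx'⟩).2, ?_⟩
    simp only [hx', dif_pos]
    have h1 : ((⟨p e, hx'⟩ : U), (H ⟨e, hx'⟩).2) = H ⟨e, hx'⟩ := Prod.ext (Subtype.ext (hH ⟨e, hx'⟩).symm) rfl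
    rw [h1, H.symm_apply_apply]

end Cover

section Coeff

/-- Coefficients of `∏ (T - g_i)` are differentiable. -/
theorem differentiableAt_coeff {V : Type*} [NormedAddCommGroup V] [NormedSpace ℂ V] {I : Type*} (s : Finset I)
    (g : I → V → ℂ) {x : V} (hg : ∀ i ∈ s, DifferentiableAt ℂ (g i) x) (j : ℕ) :
    DifferentiableAt ℂ (fun y => (∏ i ∈ s, (Polynomial.X - Polynomial.C (g i y))).coeff j) x := by
  classical
  induction s using Finset.induction_on generalizing j with
  | empty => simp
  | insert a s ha ih =>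
    have h1 := fun j => ih (fun i hi => hg i (Finset.mem_insert_of_mem hi)) j
    have h2 := hg a (Finset.mem_insert_self _ _)
    simp only [Finset.prod_insert ha, sub_mul, Polynomial.coeff_sub, Polynomial.coeff_C_mul]
    refine DifferentiableAt.sub ?_ (h2.mul (h1 j))
    cases j with
    | zero => simp
    | succ j => simpa [Polynomial.coeff_X_mul] using h1 j

/-- Bound for the coefficients of `∏ (T - c_i)`. -/
theorem norm_coeff_le {I : Type*} (s : Finset I) (c : I → ℂ) (B : ℝ) (hB : 0 ≤ B)
    (hc : ∀ i ∈ s, ‖c i‖ ≤ B) (j : ℕ) :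
    ‖(∏ i ∈ s, (Polynomial.X - Polynomial.C (c i))).coeff j‖ ≤ (1 + B) ^ s.card := by
  classical
  induction s using Finset.induction_on generalizing j with
  | empty =>
    simp only [Finset.prod_empty, Finset.card_empty, pow_zero]
    rw [Polynomial.coeff_one]
    split_ifs <;> simp
  | insert a s ha ih =>
    have h1 := fun j => ih (fun i hi => hc i (Finset.mem_insert_of_mem hi)) j
    have h2 := hc a (Finset.mem_insert_self _ _)
    rw [Finset.prod_insert ha, sub_mul, Polynomial.coeff_sub, Polynomial.coeff_C_mul, Finset.card_insert_of_notMem ha]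
    refine (norm_sub_le _ _).trans ?_
    rw [norm_mul, pow_succ, mul_add, mul_one]
    refine add_le_add ?_ ?_
    · cases j with
      | zero => simp; positivity
      | succ j => simpa [Polynomial.coeff_X_mul] using h1 j
    · rw [mul_comm]
      exact mul_le_mul (h1 j) h2 (norm_nonneg _) (by positivity)

end Coeff

/-- Polynomials are differentiable. -/
theorem differentiable_eval {n : ℕ} (D : MvPolynomial (Fin n) ℂ) :
    Differentiable ℂ (fun x : Fin n → ℂ => eval x D) := by
  induction D using MvPolynomial.induction_on with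
  | C a => simp
  | add P Q hP hQ =>
    have h : (fun x : Fin n → ℂ => eval x (P + Q)) = (fun x => eval x P) + fun x => eval x Q := by
      ext x; simp
    rw [h]
    exact Differentiable.add hP hQ
  | mul_X P i hP =>
    have h : (fun x : Fin n → ℂ => eval x (P * X i)) = (fun x => eval x P) * fun x => x i := by
      ext x; simp
    rw [h]
    exact Differentiable.mul hP (differentiable_apply i)

/-- see the header. -/
theorem exists_charpoly {E : Type} [TopologicalSpace E] {n : ℕ} (D : MvPolynomial (Fin n) ℂ)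
    (hD : D ≠ 0) (p : E → (Fin n → ℂ)) (hp : IsCoveringMapOn p {x | eval x D ≠ 0})
    (hpD : ∀ e, eval (p e) D ≠ 0) (hfin : ∀ x, (p ⁻¹' {x}).Finite)
    (m : ℕ) (hm : ∀ x, eval x D ≠ 0 → (hfin x).toFinset.card = m) (F : E → ℂ)
    (hF : ∀ (e : E) (σ : (Fin n → ℂ) → E), ContinuousAt σ (p e) → σ (p e) = e →
      (∀ᶠ x in 𝓝 (p e), p (σ x) = x) → DifferentiableAt ℂ (F ∘ σ) (p e))
    (K : ℝ) (N : ℕ) (hK : ∀ e, ‖F e‖ * ‖eval (p e) D‖ ^ N ≤ K * (1 + ‖p e‖) ^ N) :
    ∃ (f : Polynomial (MvPolynomial (Fin n) ℂ)) (k : ℕ), f.Monic ∧ f.natDegree = m ∧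
      ∀ x, eval x D ≠ 0 → f.map (eval x) =
        ∏ e ∈ (hfin x).toFinset, (Polynomial.X - Polynomial.C (eval x D ^ k * F e)) := by
  classical
  let P : (Fin n → ℂ) → Polynomial ℂ := fun x =>
    ∏ e ∈ (hfin x).toFinset, (Polynomial.X - Polynomial.C (eval x D ^ N * F e))
  have hPm : ∀ x, (P x).Monic := fun x => Polynomial.monic_prod_of_monic _ _ fun e _ => Polynomial.monic_X_sub_C _
  have hPd : ∀ x, eval x D ≠ 0 → (P x).natDegree = m := fun x hx => by
    rw [← hm x hx]
    change (∏ e ∈ (hfin x).toFinset, (Polynomial.X - Polynomial.C (eval x D ^ N * F e))).natDegree = _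
    rw [Polynomial.natDegree_prod_of_monic _ _ fun e _ => Polynomial.monic_X_sub_C _]
    simp only [Polynomial.natDegree_X_sub_C, Finset.sum_const, smul_eq_mul, mul_one]
  have hdiff : ∀ (j : ℕ) (x : Fin n → ℂ), eval x D ≠ 0 → DifferentiableAt ℂ (fun x => (P x).coeff j) x := by
    intro j x₀ hx₀
    have hev := hp x₀ hx₀
    obtain ⟨U, σ, hU, hxU, hσc, hσp, hσi, hσs⟩ := exists_sections hev
    have hfinI : Finite (p ⁻¹' {x₀}) := hfin x₀
    have : Fintype (p ⁻¹' {x₀}) := Fintype.ofFinite _
    have hP : ∀ x ∈ U, P x = ∏ i ∈ (Finset.univ : Finset (p ⁻¹' {x₀})),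
        (Polynomial.X - Polynomial.C (eval x D ^ N * F (σ i x))) := by
      intro x hx
      have h1 : (hfin x).toFinset = Finset.univ.image fun i => σ i x := by
        ext e
        simp only [Set.Finite.mem_toFinset, Set.mem_preimage, Set.mem_singleton_iff, Finset.mem_image,
          Finset.mem_univ, true_and]
        constructor
        · intro he
          exact hσs x hx e he
        · rintro ⟨i, rfl⟩
          exact hσp i x hx
      change ∏ e ∈ (hfin x).toFinset, (Polynomial.X - Polynomial.C (eval x D ^ N * F e)) = _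
      rw [h1, Finset.prod_image fun i _ i' _ h => hσi x hx h]
    have h2 : (fun x => (P x).coeff j) =ᶠ[𝓝 x₀] fun x => (∏ i ∈ (Finset.univ : Finset (p ⁻¹' {x₀})),
        (Polynomial.X - Polynomial.C (eval x D ^ N * F (σ i x)))).coeff j := by
      filter_upwards [hU.mem_nhds hxU] with x hx
      rw [hP x hx]
    refine DifferentiableAt.congr_of_eventuallyEq ?_ h2
    refine differentiableAt_coeff _ (fun i x => eval x D ^ N * F (σ i x)) (fun i _ => ?_) j
    have h3 : DifferentiableAt ℂ (F ∘ σ i) x₀ := by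
      have h4 : p (σ i x₀) = x₀ := hσp i x₀ hxU
      have h5 := hF (σ i x₀) (σ i) (by rw [h4]; exact hσc i) (by rw [h4]) (by
        rw [h4]
        filter_upwards [hU.mem_nhds hxU] with x hx using hσp i x hx)
      rwa [h4] at h5
    have h6 : DifferentiableAt ℂ (fun x : Fin n → ℂ => eval x D) x₀ := differentiable_eval D x₀
    exact (h6.pow N).mul h3
  have hgrowth : ∀ (j : ℕ) (x : Fin n → ℂ), eval x D ≠ 0 →
      ‖(P x).coeff j‖ ≤ (1 + max K 0) ^ m * (1 + ‖x‖) ^ (N * m) := by
    intro j x hx
    have h1 : ∀ e ∈ (hfin x).toFinset, ‖eval x D ^ N * F e‖ ≤ max K 0 * (1 + ‖x‖) ^ N := by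
      intro e he
      have he' : p e = x := by simpa using he
      subst he'
      rw [norm_mul, norm_pow, mul_comm]
      exact (hK e).trans (mul_le_mul_of_nonneg_right (le_max_left _ _) (by positivity))
    have h2 := norm_coeff_le (hfin x).toFinset (fun e => eval x D ^ N * F e) (max K 0 * (1 + ‖x‖) ^ N)
      (by positivity) h1 j
    rw [hm x hx] at h2
    refine h2.trans ?_
    have h3 : 1 + max K 0 * (1 + ‖x‖) ^ N ≤ (1 + max K 0) * (1 + ‖x‖) ^ N := by
      have h4 : (1 : ℝ) ≤ (1 + ‖x‖) ^ N := one_le_pow₀ (by linarith [norm_nonneg x])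
      rw [add_mul, one_mul]
      linarith
    calc (1 + max K 0 * (1 + ‖x‖) ^ N) ^ m ≤ ((1 + max K 0) * (1 + ‖x‖) ^ N) ^ m := by
          gcongr
      _ = (1 + max K 0) ^ m * (1 + ‖x‖) ^ (N * m) := by rw [mul_pow, ← pow_mul]
  choose Q hQ using fun j => H869.Growth.exists_mvPolynomial_of_growth n D hD (fun x => (P x).coeff j) (hdiff j)
    ((1 + max K 0) ^ m) (N * m) (hgrowth j)
  let r : Polynomial (MvPolynomial (Fin n) ℂ) := ∑ j ∈ Finset.range m, Polynomial.C (Q j) * Polynomial.X ^ j
  have hrj : ∀ j, r.coeff j = if j < m then Q j else 0 := by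
    intro j
    simp only [r, Polynomial.finsetSum_coeff, Polynomial.coeff_C_mul, Polynomial.coeff_X_pow, mul_ite, mul_one,
      mul_zero]
    rw [Finset.sum_ite_eq]
    simp
  have hr : r.degree < m := by
    rw [Polynomial.degree_lt_iff_coeff_zero]
    intro j hj
    rw [hrj, if_neg (by omega)]
  refine ⟨Polynomial.X ^ m + r, N, Polynomial.monic_X_pow_add hr, ?_, fun x hx => ?_⟩
  · rw [Polynomial.natDegree_add_eq_left_of_degree_lt (by rwa [Polynomial.degree_X_pow]), Polynomial.natDegree_X_pow]
  change _ = P x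
  ext j
  rw [Polynomial.map_add, Polynomial.map_pow, Polynomial.map_X, Polynomial.coeff_add, Polynomial.coeff_X_pow,
    Polynomial.coeff_map]
  rw [hrj]
  rcases lt_trichotomy j m with hj | hj | hj
  · rw [if_neg hj.ne, if_pos hj, zero_add]
    exact (hQ j x hx).symm
  · subst hj
    have h1 := hPm x
    rw [Polynomial.Monic, Polynomial.leadingCoeff, hPd x hx] at h1
    simp [h1]
  · rw [if_neg hj.ne', if_neg (by omega), map_zero, add_zero]
    exact (Polynomial.coeff_eq_zero_of_natDegree_lt (by rw [hPd x hx]; exact hj)).symm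

end Groth.Agent.An.H934.Sym
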