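import Groth.Agent.An.H880.Fam
import Groth.Agent.An.H869.LocalRoots
import Groth.Agent.An.H869.PolyGrowth

/-!
# Growth of the roots of the members of the universal family

The roots of `fam m N c`, where the coefficients `c` are of the form `g_j(b, θ) / q₂(b) ^ e_j` with
`θ` integral over the polynomials in `b`, grow at most polynomially, up to a power of `q₂(b)`.
-/

set_option autoImplicit false

namespace Groth.Agent.An.H934.RootGrowth

open MvPolynomial Groth.Agent.An.H880.Fam Groth.Agent.An.H869.LocalRoots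
open Groth.Agent.An.H869.PolyGrowth

section PG

variable {α : Type*} {b : α → ℝ}

/-- Polynomial growth with respect to a smaller base. -/
theorem pg_base {b' : α → ℝ} (hb : ∀ q, 0 ≤ b q) (h : ∀ q, b q ≤ b' q) {f : α → ℂ} (hf : PG b f) :
    PG b' f := by
  obtain ⟨K, N, hK, hN⟩ := hf
  refine ⟨K, N, hK, fun q => (hN q).trans ?_⟩
  have := hb q
  have := h q
  gcongr

/-- The elementary bound for the roots of a monic polynomial. -/
theorem norm_le_of_monic (m : ℕ) (a : Fin m → ℂ) (t : ℂ)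
    (ht : t ^ m + ∑ i : Fin m, a i * t ^ (i : ℕ) = 0) : ‖t‖ ≤ (∑ i, ‖a i‖) + 1 := by
  have hs : 0 ≤ ∑ i, ‖a i‖ := Finset.sum_nonneg fun _ _ => norm_nonneg _
  by_contra hcon
  push Not at hcon
  have h1 : 1 < ‖t‖ := by linarith
  cases m with
  | zero => simp at ht
  | succ k =>
    have h2 : t ^ (k + 1) = -∑ i : Fin (k + 1), a i * t ^ (i : ℕ) := eq_neg_of_add_eq_zero_left ht
    have h3 : ‖t‖ ^ (k + 1) ≤ (∑ i, ‖a i‖) * ‖t‖ ^ k := by
      rw [← norm_pow, h2, norm_neg, Finset.sum_mul]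
      refine (norm_sum_le _ _).trans (Finset.sum_le_sum fun i _ => ?_)
      rw [norm_mul, norm_pow]
      refine mul_le_mul_of_nonneg_left ?_ (norm_nonneg _)
      exact pow_le_pow_right₀ h1.le (by have := i.2; omega)
    have h4 : 0 < ‖t‖ ^ k := by positivity
    rw [pow_succ, mul_comm] at h3
    have h5 := le_of_mul_le_mul_right h3 h4
    linarith

/-- The roots of monic polynomials with coefficients of polynomial growth have polynomial growth. -/
theorem pg_of_monic (hb : ∀ q, 1 ≤ b q) (m : ℕ) (a : Fin m → α → ℂ) (ha : ∀ i, PG b (a i))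
    (t : α → ℂ) (ht : ∀ q, t q ^ m + ∑ i : Fin m, a i q * t q ^ (i : ℕ) = 0) : PG b t := by
  have h1 : PG b (fun q => (∑ i : Fin m, ((‖a i q‖ : ℝ) : ℂ)) + 1) :=
    (PG.sum hb Finset.univ (f := fun i q => ((‖a i q‖ : ℝ) : ℂ))
      (fun i _ => (ha i).mono (fun q => by simp))).add hb (PG.const 1)
  refine h1.mono fun q => (norm_le_of_monic m (fun i => a i q) (t q) (ht q)).trans (le_of_eq ?_)
  have h6 : ((∑ i : Fin m, ((‖a i q‖ : ℝ) : ℂ)) + 1) =
      ((((∑ i : Fin m, ‖a i q‖) + 1 : ℝ)) : ℂ) := by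
    push_cast
    rfl
  rw [h6, Complex.norm_real, Real.norm_of_nonneg]
  exact add_nonneg (Finset.sum_nonneg fun _ _ => norm_nonneg _) zero_le_one

end PG

/-- The value of a member of the universal family. -/
theorem eval_fam (m N : ℕ) (c : Fin (m * (N + 1)) → ℂ) (z h : ℂ) :
    ((fam m N c).map (Polynomial.evalRingHom z)).eval h =
      h ^ m + ∑ i : Fin m, (∑ l : Fin (N + 1), c (finProdFinEquiv (i, l)) * z ^ (l : ℕ)) *
        h ^ (i : ℕ) := by
  simp [fam, Polynomial.map_sum, Polynomial.eval_finsetSum]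

theorem norm_tail_le {n : ℕ} (x : Fin (n + 1) → ℂ) : ‖(Fin.tail x : Fin n → ℂ)‖ ≤ ‖x‖ :=
  (pi_norm_le_iff_of_nonneg (norm_nonneg x)).2 fun i => norm_le_pi_norm x i.succ

/-- **Growth of the roots.** -/
theorem growth (n m N : ℕ) (q₂ : MvPolynomial (Fin n) ℂ) (μ : Polynomial (MvPolynomial (Fin n) ℂ))
    (hμ : μ.Monic) (gc : Fin (m * (N + 1)) → Polynomial (MvPolynomial (Fin n) ℂ))
    (ec : Fin (m * (N + 1)) → ℕ) :
    ∃ (K : ℝ) (M N' : ℕ), ∀ (x : Fin (n + 1) → ℂ) (θ h : ℂ), eval (Fin.tail x) q₂ ≠ 0 →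
      F μ (Fin.tail x, θ) = 0 →
      ((fam m N fun j => F (gc j) (Fin.tail x, θ) / eval (Fin.tail x) q₂ ^ ec j).map
        (Polynomial.evalRingHom (x 0))).eval h = 0 →
      ‖h‖ * ‖eval (Fin.tail x) q₂‖ ^ M ≤ K * (1 + ‖x‖) ^ N' := by
  classical
  let M : ℕ := ∑ j, ec j
  have hM : ∀ j, ec j ≤ M := fun j => Finset.single_le_sum (fun _ _ => Nat.zero_le _)
    (Finset.mem_univ j)
  let α : Type := {y : (Fin (n + 1) → ℂ) × ℂ × ℂ // eval (Fin.tail y.1) q₂ ≠ 0 ∧
    F μ (Fin.tail y.1, y.2.1) = 0 ∧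
    ((fam m N fun j => F (gc j) (Fin.tail y.1, y.2.1) / eval (Fin.tail y.1) q₂ ^ ec j).map
        (Polynomial.evalRingHom (y.1 0))).eval y.2.2 = 0}
  let b : α → ℝ := fun y => 1 + ‖y.1.1‖
  let φ : α → (Fin n → ℂ) := fun y => Fin.tail y.1.1
  have hb : ∀ y, 1 ≤ b y := fun y => le_add_of_nonneg_right (norm_nonneg _)
  have hφ : ∀ y, 1 + ‖φ y‖ ≤ b y := fun y => add_le_add_right (norm_tail_le y.1.1) 1
  have hφ0 : ∀ y, 0 ≤ 1 + ‖φ y‖ := fun y => by positivity
  have hq : PG b (fun y => eval (φ y) q₂) := pg_base hφ0 hφ (pg_eval φ q₂)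
  have hz : PG b (fun y => y.1.1 0) := ⟨1, 1, zero_le_one, fun y => by
    rw [one_mul, pow_one]
    exact (norm_le_pi_norm y.1.1 0).trans (le_add_of_nonneg_left zero_le_one)⟩
  have hg : ∀ j, PG b (fun y => F (gc j) (φ y, y.1.2.1)) := fun j =>
    pg_base hφ0 hφ (pg_eval_root φ (fun y => y.1.2.1) μ hμ (fun y => y.2.2.1) (gc j))
  have key : PG b (fun y => y.1.2.2 * eval (φ y) q₂ ^ M) := by
    refine pg_of_monic hb m (fun i y => ∑ l : Fin (N + 1),
      F (gc (finProdFinEquiv (i, l))) (φ y, y.1.2.1) *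
        (eval (φ y) q₂ ^ (M * (m - i) - ec (finProdFinEquiv (i, l)))) * y.1.1 0 ^ (l : ℕ))
      (fun i => ?_) _ (fun y => ?_)
    · exact PG.sum hb _ fun l _ => ((hg _).mul hb (hq.pow hb _)).mul hb (hz.pow hb _)
    · have h0 := y.2.2.2
      rw [eval_fam] at h0
      have hq0 : eval (φ y) q₂ ≠ 0 := y.2.1
      have h1 := congrArg (fun w => w * (eval (φ y) q₂ ^ M) ^ m) h0
      simp only [zero_mul, add_mul, Finset.sum_mul] at h1
      refine Eq.trans ?_ h1
      rw [mul_pow]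
      congr 1
      refine Finset.sum_congr rfl fun i _ => ?_
      rw [Finset.sum_mul]
      refine Finset.sum_congr rfl fun l _ => ?_
      have hi : (i : ℕ) < m := i.2
      have h2 : (eval (φ y) q₂ ^ M) ^ m = eval (φ y) q₂ ^ (M * (m - i) -
          ec (finProdFinEquiv (i, l))) * eval (φ y) q₂ ^ (ec (finProdFinEquiv (i, l))) *
          (eval (φ y) q₂ ^ M) ^ (i : ℕ) := by
        rw [← pow_mul, ← pow_mul, ← pow_add, ← pow_add]
        congr 1
        have h3 : ec (finProdFinEquiv (i, l)) ≤ M * (m - i) :=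
          (hM _).trans (Nat.le_mul_of_pos_right _ (by omega))
        rw [Nat.sub_add_cancel h3, ← Nat.mul_add, Nat.sub_add_cancel hi.le]
      rw [h2, mul_pow]
      change _ = F (gc (finProdFinEquiv (i, l))) (φ y, y.1.2.1) /
        eval (φ y) q₂ ^ ec (finProdFinEquiv (i, l)) * y.1.1 0 ^ (l : ℕ) * y.1.2.2 ^ (i : ℕ) * _
      field_simp
  obtain ⟨K, N', -, hK⟩ := key
  refine ⟨K, M, N', fun x θ h h1 h2 h3 => ?_⟩
  have := hK ⟨(x, θ, h), h1, h2, h3⟩
  rwa [norm_mul, norm_pow] at this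

end Groth.Agent.An.H934.RootGrowth
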